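import Cfsg.Agent.H10.HeT.HB.RChk0
import Cfsg.Agent.H10.HeT.HB.RChk1
import Cfsg.Agent.H10.HeT.HB.RChk2
import Cfsg.Agent.H10.HeT.HB.RChk3
import Cfsg.Agent.H10.HeT.HB.RChk4
import Cfsg.Agent.H10.HeT.HB.RChk5
import Cfsg.Agent.H10.HeT.HB.RChk6
import Cfsg.Agent.H10.HeT.HB.RChk7

set_option autoImplicit false
set_option linter.all false

namespace Cfsg.Agent.H10.HeT

open Cfsg.Agent.H35 Cfsg.Spor

theorem hb_rall : ∀ p, p < 15120 → hb_rf p = true := by
  apply allR_blocks hb_rf 15120 10 15 _ (by decide)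
  intro k hk
  interval_cases k
  · exact hb_rchk_0
  · exact hb_rchk_1
  · exact hb_rchk_2
  · exact hb_rchk_3
  · exact hb_rchk_4
  · exact hb_rchk_5
  · exact hb_rchk_6
  · exact hb_rchk_7
  · exact hb_rchk_8
  · exact hb_rchk_9
  · exact hb_rchk_10
  · exact hb_rchk_11
  · exact hb_rchk_12
  · exact hb_rchk_13
  · exact hb_rchk_14

theorem hb_circ_ok : circChk (fullW hb_rws hb_prels) hb_circT 0 hb_ccert = true := by decide +kernel
theorem hb_hc_ok : allR (fun c => hcChk hb_rsw hb_hc1T hb_hc2T c) 0 0 0 = true := by decide +kernel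
theorem hb_h0 : RData.aord (hb_rd.ent 0 1) = 0 := by decide +kernel

end Cfsg.Agent.H10.HeT
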